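import Cfsg.Agent.Lib.Spor.J2Unique.Case9.Part0
import Cfsg.Agent.Lib.Spor.J2Unique.Case9.Part1
import Cfsg.Agent.Lib.Spor.J2Unique.Case9.Part2

/-!
A case in which `b` falls into the centralizer: the assembled checks.
-/

set_option autoImplicit false

namespace CfsgLib.Spor.J2Unique.Case9

open CfsgLib.Spor.TC

theorem steps_ok : cert.SStepsOK 0 5254 :=
  ((steps0.append _ steps2500).append _ steps5000)

set_option maxRecDepth 100000 in
theorem trace : cert.sTraceOK 5254 [2] 0x290c = true := by decide +kernel

end CfsgLib.Spor.J2Unique.Case9
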